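import Groth.Agent.Lib.Depth.Hartogs
import Groth.Agent.Lib.ParaDual.Basic
import Groth.Agent.S2821
import Mathlib.AlgebraicGeometry.Noetherian
import Mathlib.AlgebraicGeometry.Morphisms.Affine
import Mathlib.RingTheory.Ideal.KrullsHeightTheorem

/-!
# The affine hull of an open of an affine regular scheme
-/

set_option autoImplicit false
set_option linter.all false
set_option backward.isDefEq.respectTransparency false
universe u

open CategoryTheory Limits AlgebraicGeometry TopologicalSpace

noncomputable section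

namespace GrothLib.EtHullReg10

theorem two_le_depth (A : Type u) [CommRing A] [IsRegularLocalRing A] (h : (2 : WithBot ℕ∞) ≤ ringKrullDim A) :
    (2 : ℕ∞) ≤ LocCoh.depth A A := by
  obtain ⟨_, _⟩ := Groth.Agent.S2821.result A
  have hm2 : (2 : ℕ∞) ≤ (IsLocalRing.maximalIdeal A).height := by
    rw [← IsLocalRing.maximalIdeal_height_eq_ringKrullDim] at h
    exact WithBot.coe_le_coe.1 h
  have hm0 : IsLocalRing.maximalIdeal A ≠ ⊥ := fun hb => by
    rw [hb, Ideal.height_bot] at hm2
    simp at hm2
  obtain ⟨π, hπm, hπ⟩ := Ideal.IsPrime.exists_mem_prime_of_ne_bot inferInstance hm0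
  have hle : Ideal.span {π} ≠ IsLocalRing.maximalIdeal A := fun he => by
    haveI : (Ideal.span {π} : Ideal A).IsPrincipal := ⟨π, rfl⟩
    have h1 := Ideal.height_le_one_of_isPrincipal_of_mem_minimalPrimes (Ideal.span {π}) (IsLocalRing.maximalIdeal A)
      ⟨⟨inferInstance, he.le⟩, fun q hq _ => he.symm.trans_le hq.2⟩
    exact absurd (hm2.trans h1) (by decide)
  obtain ⟨b, hbm, hb⟩ := SetLike.exists_of_lt (lt_of_le_of_ne
    ((Ideal.span_singleton_le_iff_mem _).2 hπm) hle)
  refine GrothLib.ParaDual.le_depth_of_regular [π, b] 2 le_rfl (fun r hr => by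
    rcases List.mem_cons.1 hr with rfl | hr
    · exact hπm
    · exact List.mem_singleton.1 hr ▸ hbm) ?_
  rw [GrothLib.RegSeqLoc.isWeaklyRegular_iff_mem]
  intro i hi a ha
  have hp : Prime π := hπ
  match i, hi with
  | 0, _ =>
    simp only [List.take_zero, Ideal.ofList_nil, Ideal.mem_bot, List.getElem_cons_zero, mul_eq_zero] at ha ⊢
    exact ha.resolve_left hp.ne_zero
  | 1, _ =>
    simp only [List.take_succ_cons, List.take_zero, Ideal.ofList_singleton, List.getElem_cons_succ,
      List.getElem_cons_zero, Ideal.mem_span_singleton] at ha ⊢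
    refine (hp.dvd_or_dvd ha).resolve_left fun hd => hb (Ideal.mem_span_singleton.2 hd)

variable {E : Scheme.{u}}

theorem specializes_iff_le {U : E.Opens} (hU : IsAffineOpen U) (e y : U) :
    e.1 ⤳ y.1 ↔ (hU.primeIdealOf e).asIdeal ≤ (hU.primeIdealOf y).asIdeal := by
  rw [show e.1 = hU.fromSpec (hU.primeIdealOf e) from (hU.fromSpec_primeIdealOf e).symm,
    show y.1 = hU.fromSpec (hU.primeIdealOf y) from (hU.fromSpec_primeIdealOf y).symm,
    hU.fromSpec.isOpenEmbedding.isInducing.specializes_iff]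
  exact (PrimeSpectrum.le_iff_specializes _ _).symm

theorem mem_primeIdealOf_iff {U : E.Opens} (hU : IsAffineOpen U) (y : U) (a : Γ(E, U)) :
    a ∈ (hU.primeIdealOf y).asIdeal ↔ y.1 ∉ E.basicOpen a := by
  letI := TopCat.Presheaf.algebra_section_stalk E.presheaf y
  haveI := hU.isLocalization_stalk y
  rw [Scheme.mem_basicOpen E a y.1 y.2]
  have h := IsLocalization.AtPrime.to_map_mem_maximal_iff (E.presheaf.stalk y.1) (hU.primeIdealOf y).asIdeal a
  rw [IsLocalRing.mem_maximalIdeal, mem_nonunits_iff] at h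
  exact h.symm

/-- The complement of the closure of a point of codimension at most one is affine over a regular scheme. -/
theorem isAffineHom_compl [IsLocallyNoetherian E] (hE : ∀ e : E, IsRegularLocalRing (E.presheaf.stalk e))
    (z : E) (hz : ringKrullDim (E.presheaf.stalk z) ≤ 1) :
    IsAffineHom (Scheme.Opens.ι (⟨(closure {z})ᶜ, isClosed_closure.isOpen_compl⟩ : E.Opens)) := by
  set W : E.Opens := ⟨(closure {z})ᶜ, isClosed_closure.isOpen_compl⟩ with hW
  have hloc : ∀ e : E, ∃ V : E.affineOpens, e ∈ V.1 ∧ IsAffineOpen (W.ι ⁻¹ᵁ V.1) := by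
    intro e
    by_cases he : e ∈ W
    · obtain ⟨V, hV, heV, hVW⟩ := exists_isAffineOpen_mem_and_subset he
      exact ⟨⟨V, hV⟩, heV, hV.preimage_of_isOpenImmersion W.ι (by rw [Scheme.Opens.opensRange_ι]; exact hVW)⟩
    · have hze : z ⤳ e := specializes_iff_mem_closure.2 (not_not.1 he)
      obtain ⟨U, hU, heU, -⟩ := exists_isAffineOpen_mem_and_subset (Opens.mem_top e)
      have hzU : z ∈ U := hze.mem_open U.2 heU
      haveI : IsNoetherianRing Γ(E, U) := IsLocallyNoetherian.component_noetherian ⟨U, hU⟩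
      set q := (hU.primeIdealOf ⟨z, hzU⟩).asIdeal with hq
      set P := (hU.primeIdealOf ⟨e, heU⟩).asIdeal with hP
      have hqP : q ≤ P := (specializes_iff_le hU ⟨z, hzU⟩ ⟨e, heU⟩).1 hze
      letI := TopCat.Presheaf.algebra_section_stalk E.presheaf (⟨e, heU⟩ : U)
      haveI hlocP := hU.isLocalization_stalk ⟨e, heU⟩
      haveI := hE e
      obtain ⟨_, _⟩ := Groth.Agent.S2821.result (E.presheaf.stalk e)
      set Q := q.map (algebraMap Γ(E, U) (E.presheaf.stalk e)) with hQ
      have hdis : Disjoint (P.primeCompl : Set Γ(E, U)) q := Set.disjoint_left.2 fun x hx hxq => hx (hqP hxq)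
      haveI : Q.IsPrime := IsLocalization.isPrime_of_isPrime_disjoint P.primeCompl _ q inferInstance hdis
      have hQc : Q.comap (algebraMap Γ(E, U) (E.presheaf.stalk e)) = q :=
        IsLocalization.comap_map_of_isPrime_disjoint P.primeCompl _ inferInstance hdis
      have hh : Q.height ≤ 1 := by
        rw [← IsLocalization.height_under P.primeCompl Q]
        show (Q.comap (algebraMap Γ(E, U) (E.presheaf.stalk e))).height ≤ 1
        rw [hQc]
        letI := TopCat.Presheaf.algebra_section_stalk E.presheaf (⟨z, hzU⟩ : U)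
        haveI := hU.isLocalization_stalk ⟨z, hzU⟩
        rw [IsLocalization.AtPrime.ringKrullDim_eq_height q (E.presheaf.stalk z)] at hz
        exact WithBot.coe_le_coe.1 hz
      obtain ⟨a, ha, haQ⟩ : ∃ a ∈ q, Q ≤ Ideal.span {algebraMap Γ(E, U) (E.presheaf.stalk e) a} := by
        by_cases hb : Q = ⊥
        · exact ⟨0, q.zero_mem, hb.le.trans bot_le⟩
        obtain ⟨π, hπQ, hπ⟩ := Ideal.IsPrime.exists_mem_prime_of_ne_bot inferInstance hb
        haveI : (Ideal.span {π} : Ideal (E.presheaf.stalk e)).IsPrime :=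
          (Ideal.span_singleton_prime hπ.ne_zero).2 hπ
        have hπQ' : Ideal.span {π} = Q := by
          by_contra hne
          have hlt : Ideal.span {π} < Q := lt_of_le_of_ne ((Ideal.span_singleton_le_iff_mem _).2 hπQ) hne
          have h2 := Ideal.height_strict_mono_of_isPrime hlt
          have h1 : (1 : ℕ∞) ≤ (Ideal.span {π} : Ideal (E.presheaf.stalk e)).height :=
            Order.one_le_iff_pos.2 (lt_of_le_of_lt (le_of_eq Ideal.height_bot.symm)
              (Ideal.height_strict_mono_of_isPrime (I := (⊥ : Ideal (E.presheaf.stalk e)))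
                (bot_lt_iff_ne_bot.2 fun h0 => hπ.ne_zero (Ideal.span_singleton_eq_bot.1 h0))))
          exact absurd (h2.trans_le hh) (not_lt.2 h1)
        obtain ⟨⟨a, s⟩, has⟩ := IsLocalization.surj P.primeCompl π
        refine ⟨a, ?_, ?_⟩
        · rw [← hQc, Ideal.mem_comap, ← has]
          exact Q.mul_mem_right _ hπQ
        · rw [← hπQ', Ideal.span_singleton_le_iff_mem, Ideal.mem_span_singleton]
          exact ((IsLocalization.map_units (E.presheaf.stalk e) s).dvd_mul_right).1 (has ▸ dvd_rfl)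
      obtain ⟨S, hS⟩ := IsNoetherian.noetherian q
      have key : ∀ r : S, ∃ t ∈ P.primeCompl, t * r.1 ∈ Ideal.span {a} := fun r => by
        have h1 : algebraMap Γ(E, U) (E.presheaf.stalk e) r.1 ∈
            (Ideal.span {a}).map (algebraMap Γ(E, U) (E.presheaf.stalk e)) := by
          rw [Ideal.map_span, Set.image_singleton]
          exact haQ (Ideal.mem_map_of_mem _ (hS ▸ Ideal.subset_span r.2))
        exact (IsLocalization.algebraMap_mem_map_algebraMap_iff P.primeCompl _ _ r.1).1 h1
      choose c hc hcr using key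
      let t := ∏ r, c r
      have ht : t ∈ P.primeCompl := Submonoid.prod_mem _ fun r _ => hc r
      have htq : ∀ r ∈ q, t * r ∈ Ideal.span {a} := by
        intro r hr
        rw [← hS] at hr
        induction hr using Submodule.span_induction with
        | mem x hx =>
          obtain ⟨d, hd⟩ := Finset.dvd_prod_of_mem c (Finset.mem_univ (⟨x, hx⟩ : S))
          rw [show t = c ⟨x, hx⟩ * d from hd, mul_right_comm]
          exact Ideal.mul_mem_right _ _ (hcr ⟨x, hx⟩)
        | zero => simp
        | add x y _ _ hx hy => rw [mul_add]; exact add_mem hx hy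
        | smul b x _ hx => rw [smul_eq_mul, mul_left_comm]; exact Ideal.mul_mem_left _ _ hx
      refine ⟨⟨E.basicOpen t, hU.basicOpen t⟩, ?_, ?_⟩
      · exact not_not.1 fun h => ht ((mem_primeIdealOf_iff hU ⟨e, heU⟩ t).2 h)
      · have heq : W.ι ⁻¹ᵁ E.basicOpen t = W.ι ⁻¹ᵁ E.basicOpen (t * a) := by
          refine le_antisymm ?_ (W.ι.preimage_mono ((E.basicOpen_mul t a).le.trans inf_le_left))
          intro y hy
          have hyU : y.1 ∈ U := E.basicOpen_le t hy
          refine not_not.1 fun hn => y.2 (specializes_iff_mem_closure.1 ?_)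
          refine (specializes_iff_le hU ⟨z, hzU⟩ ⟨y.1, hyU⟩).2 fun r hr => ?_
          have h1 : t * a ∈ (hU.primeIdealOf ⟨y.1, hyU⟩).asIdeal := (mem_primeIdealOf_iff hU _ _).2 hn
          have h2 : t ∉ (hU.primeIdealOf ⟨y.1, hyU⟩).asIdeal := fun h => (mem_primeIdealOf_iff hU _ _).1 h hy
          obtain ⟨d, hd⟩ := Ideal.mem_span_singleton'.1 (htq r hr)
          have h3 : t * r ∈ (hU.primeIdealOf ⟨y.1, hyU⟩).asIdeal :=
            hd ▸ Ideal.mul_mem_left _ d (((hU.primeIdealOf ⟨y.1, hyU⟩).2.mem_or_mem h1).resolve_left h2)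
          exact ((hU.primeIdealOf ⟨y.1, hyU⟩).2.mem_or_mem h3).resolve_left h2
        rw [heq]
        refine (hU.basicOpen (t * a)).preimage_of_isOpenImmersion W.ι ?_
        rw [Scheme.Opens.opensRange_ι]
        intro y hy hyz
        have hyU : y ∈ U := E.basicOpen_le _ hy
        have h1 := (specializes_iff_le hU ⟨z, hzU⟩ ⟨y, hyU⟩).1 (specializes_iff_mem_closure.2 hyz)
        exact (mem_primeIdealOf_iff hU ⟨y, hyU⟩ (t * a)).1 (h1 (q.mul_mem_left t ha)) hy
  choose V heV hV using hloc
  exact isAffineHom_of_forall_exists_isAffineOpen W.ι fun e => ⟨(V e).1, heV e, (V e).2, hV e⟩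

/-- An open of an affine regular Noetherian scheme has an affine open hull with the same sections. -/
theorem exists_hull [IsAffine E] [IsNoetherian E] (hE : ∀ e : E, IsRegularLocalRing (E.presheaf.stalk e))
    (U : E.Opens) :
    ∃ (W : E.Opens) (h : U ≤ W), IsAffineOpen W ∧ Function.Bijective (E.presheaf.map (homOfLE h).op) := by
  classical
  let Z : Set E := {z | z ∉ U ∧ ringKrullDim (E.presheaf.stalk z) ≤ 1 ∧ ∀ y, y ∉ U → y ⤳ z → y = z}
  have hZ : Z.Finite := by
    let C : Set E := (U : Set E)ᶜ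
    haveI : NoetherianSpace C := inferInstance
    have : Z ⊆ Subtype.val '' {c : C | ∀ y, y ⤳ c → y = c} := fun z hz =>
      ⟨⟨z, hz.1⟩, fun y hy => Subtype.ext (hz.2.2 y.1 y.2 (hy.map continuous_subtype_val)), rfl⟩
    refine Set.Finite.subset (Set.Finite.image _ ?_) this
    haveI : QuasiSober C := (U.2.isClosed_compl.isClosedEmbedding_subtypeVal).quasiSober
    refine Set.Finite.of_injOn (f := fun l : C => closure ({l} : Set C)) (t := irreducibleComponents C) ?_ ?_
      NoetherianSpace.finite_irreducibleComponents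
    · intro l hl
      obtain ⟨t₀, ht₀⟩ := QuasiSober.sober (isIrreducible_irreducibleComponent (x := l)) isClosed_irreducibleComponent
      have h1 : t₀ = l := hl t₀ (ht₀.specializes mem_irreducibleComponent)
      show closure ({l} : Set C) ∈ irreducibleComponents C
      rw [← h1, ht₀.def]
      exact irreducibleComponent_mem_irreducibleComponents l
    · intro a _ b _ h
      exact (show IsGenericPoint a (closure ({b} : Set C)) from h).eq rfl
  let Wz : E → E.Opens := fun z => ⟨(closure {z})ᶜ, isClosed_closure.isOpen_compl⟩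
  let W : E.Opens := hZ.toFinset.inf Wz
  have hUW : U ≤ W := Finset.le_inf fun z hz y hy hyz =>
    ((hZ.mem_toFinset.1 hz).1) ((specializes_iff_mem_closure.2 hyz).mem_open U.2 hy)
  have hWaff : IsAffineOpen W := by
    refine Finset.inf_induction (p := IsAffineOpen) (isAffineOpen_top E) (fun a ha b hb => IsAffineOpen.inf (show IsAffineOpen a from ha) (show IsAffineOpen b from hb)) fun z hz => ?_
    haveI := GrothLib.EtHullReg10.isAffineHom_compl hE z (hZ.mem_toFinset.1 hz).2.1
    exact isAffine_of_isAffineHom (Wz z).ι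
  refine ⟨W, hUW, hWaff, ?_⟩
  let U' : W.toScheme.Opens := W.ι ⁻¹ᵁ U
  have hW' : ∀ w : W.toScheme, w ∉ U' → (2 : ℕ∞) ≤ LocCoh.depth (W.toScheme.presheaf.stalk w) (W.toScheme.presheaf.stalk w) := by
    intro w hw
    haveI : IsRegularLocalRing (W.toScheme.presheaf.stalk w) := by
      haveI := hE w.1
      exact IsRegularLocalRing.of_ringEquiv (W.stalkIso w).commRingCatIsoToRingEquiv.symm
    refine two_le_depth _ ?_
    rw [ringKrullDim_eq_of_ringEquiv (W.stalkIso w).commRingCatIsoToRingEquiv]
    obtain ⟨z, hzC, hzw, hzmax⟩ := GrothLib.Depth.exists_maximal_generalization (C := (U : Set E)ᶜ)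
      U.2.isClosed_compl (x₀ := w.1) hw
    by_contra hlt
    have hz1 : ringKrullDim (E.presheaf.stalk z) ≤ 1 := by
      have h1 : ringKrullDim (E.presheaf.stalk z) ≤ ringKrullDim (E.presheaf.stalk w.1) := by
        rw [ringKrullDim_stalk_eq_coheight, ringKrullDim_stalk_eq_coheight]
        exact_mod_cast Order.coheight_anti (Scheme.le_iff_specializes.2 hzw)
      refine h1.trans ?_
      rw [ringKrullDim_stalk_eq_coheight] at hlt ⊢
      refine WithBot.coe_le_coe.2 (?_ : Order.coheight w.1 ≤ (1 : ℕ∞))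
      have h2 : ((Order.coheight w.1 : ℕ∞) : WithBot ℕ∞) < ((2 : ℕ∞) : WithBot ℕ∞) := not_le.1 hlt
      exact Order.le_of_lt_add_one (show _ < (1 : ℕ∞) + 1 from WithBot.coe_lt_coe.1 h2)
    exact (Finset.inf_le (f := Wz) (hZ.mem_toFinset.2 ⟨hzC, hz1, hzmax⟩) w.2) (specializes_iff_mem_closure.1 hzw)
  haveI : IsLocallyNoetherian W.toScheme := inferInstance
  have h1 := GrothLib.Depth.res_bijective (U := U') hW' ⊤
  have key : ∀ (A B : W.toScheme.Opens) (a : E.Opens) (ha : W.ι ''ᵁ A = a) (b : E.Opens) (hb : W.ι ''ᵁ B = b)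
      (hBA : B ≤ A) (hba : b ≤ a), Function.Bijective (W.toScheme.presheaf.map (homOfLE hBA).op) →
      Function.Bijective (E.presheaf.map (homOfLE hba).op) := by
    rintro A B _ rfl _ rfl hBA hba h
    exact h
  refine key ⊤ (⊤ ⊓ U') W W.ι_image_top U ?_ inf_le_left hUW h1
  rw [top_inf_eq, Scheme.Hom.image_preimage_eq_opensRange_inf, Scheme.Opens.opensRange_ι]
  exact inf_eq_right.2 hUW

end GrothLib.EtHullReg10
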